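import Groth.Agent.CommAlgDim.LocPD
import Groth.Agent.CommAlgDim.Depth
import Groth.Agent.TCLib.Chain

/-! Ideals of finite projective dimension with free conormal summands (Ferrand, Vasconcelos). -/

set_option autoImplicit false
set_option linter.style.haveILetI false
universe u

open IsLocalRing CategoryTheory Pointwise RingTheory.Sequence CommAlgDim

namespace FVLib

variable {R : Type u} [CommRing R] [IsNoetherianRing R] [IsLocalRing R]

/-- At an associated prime a module of finite projective dimension is free. -/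
theorem free_at_associated {M : Type u} [AddCommGroup M] [Module R M] [Module.Finite R M] {n : ℕ}
    (h : PDLT R M (n + 1)) (q : PrimeSpectrum R) (hq : q.asIdeal ∈ associatedPrimes R R) :
    Module.Free (Localization.AtPrime q.asIdeal) (LocalizedModule q.asIdeal.primeCompl M) := by
  let S := q.asIdeal.primeCompl
  obtain ⟨z, hz⟩ := ((isAssociatedPrime_iff).1 hq).2
  have hzq : ∀ a : R, a ∈ q.asIdeal ↔ a * z = 0 := fun a => by
    rw [hz, Submodule.mem_colon_singleton, Submodule.mem_bot, smul_eq_mul]
  let z₁ := algebraMap R (Localization.AtPrime q.asIdeal) z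
  have hz0 : z₁ ≠ 0 := fun h0 => by
    obtain ⟨⟨s, hs⟩, hsz⟩ := (IsLocalization.map_eq_zero_iff S _ z).1 h0
    exact hs ((hzq s).2 hsz)
  have hzm : ∀ a ∈ maximalIdeal (Localization.AtPrime q.asIdeal), z₁ * a = 0 := by
    intro a ha
    rw [← Localization.AtPrime.map_eq_maximalIdeal] at ha
    have : Ideal.map (algebraMap R (Localization.AtPrime q.asIdeal)) q.asIdeal ≤
        LinearMap.ker (LinearMap.mulLeft (Localization.AtPrime q.asIdeal) z₁) := Ideal.map_le_iff_le_comap.2 fun b hb => by
      rw [Ideal.mem_comap, LinearMap.mem_ker, LinearMap.mulLeft_apply, ← map_mul, mul_comm, (hzq b).1 hb, map_zero]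
    exact this ha
  haveI : Module.Finite (Localization.AtPrime q.asIdeal) (LocalizedModule S M) :=
    Module.Finite.of_isLocalizedModule S (LocalizedModule.mkLinearMap S M)
  haveI := projective_of_pdlt hz0 hzm n _ (PDLT.localization S (LocalizedModule.mkLinearMap S M) h)
  exact Module.free_of_flat_of_isLocalRing

/-- The rank of a module of finite projective dimension at the associated primes. -/
theorem exists_rank : ∀ (n : ℕ) (M : Type u) [AddCommGroup M] [Module R M] [Module.Finite R M],
    PDLT R M (n + 1) → ∃ r : ℤ, ∀ q : PrimeSpectrum R, q.asIdeal ∈ associatedPrimes R R →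
      (Module.rankAtStalk (R := R) M q : ℤ) = r
  | 0, M, _, _, _, h => by
    haveI : Module.Projective R M := pdlt_one_iff.1 h
    haveI : Module.Free R M := Module.free_of_flat_of_isLocalRing
    exact ⟨Module.finrank R M, fun q _ => by rw [congrFun Module.rankAtStalk_eq_finrank_of_free q]; rfl⟩
  | n + 1, M, _, _, _, h => by
    obtain ⟨k, f, hf⟩ := Module.Finite.exists_fin' R M
    have hK := (pdlt_ker_iff f hf n).1 h
    obtain ⟨r, hr⟩ := exists_rank n (LinearMap.ker f) hK
    refine ⟨k - r, fun q hq => ?_⟩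
    let S := q.asIdeal.primeCompl
    let Rq := Localization.AtPrime q.asIdeal
    haveI := free_at_associated h q hq
    haveI := free_at_associated hK q hq
    haveI : Module.Finite Rq (LocalizedModule S M) := Module.Finite.of_isLocalizedModule S (LocalizedModule.mkLinearMap S M)
    haveI : Module.Finite Rq (LocalizedModule S (LinearMap.ker f)) :=
      Module.Finite.of_isLocalizedModule S (LocalizedModule.mkLinearMap S (LinearMap.ker f))
    let i₀ := IsLocalizedModule.map S (LocalizedModule.mkLinearMap S (LinearMap.ker f))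
      (LocalizedModule.mkLinearMap S (Fin k → R)) (LinearMap.ker f).subtype
    let g₀ := IsLocalizedModule.map S (LocalizedModule.mkLinearMap S (Fin k → R))
      (LocalizedModule.mkLinearMap S M) f
    let i := i₀.extendScalarsOfIsLocalization S Rq
    let g := g₀.extendScalarsOfIsLocalization S Rq
    have hi : Function.Injective i :=
      IsLocalizedModule.map_injective S _ _ _ Subtype.val_injective
    have hg : Function.Surjective g := IsLocalizedModule.map_surjective S _ _ f hf
    have hex : Function.Exact i g :=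
      LocalizedModule.map_exact S _ f (LinearMap.exact_subtype_ker_map f)
    obtain ⟨l, hl⟩ := Module.projective_lifting_property g LinearMap.id hg
    have hgl : ∀ y, g (l y) = y := LinearMap.congr_fun hl
    have he : Function.Bijective (i.coprod l) := by
      refine ⟨(injective_iff_map_eq_zero _).2 fun z hz => ?_, fun y => ?_⟩
      · rw [LinearMap.coprod_apply] at hz
        have h1 := congrArg g hz
        rw [map_add, hex.apply_apply_eq_zero, zero_add, hgl, map_zero] at h1
        rw [h1, map_zero, add_zero] at hz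
        exact Prod.ext (hi (hz.trans (map_zero _).symm)) h1
      · obtain ⟨w, hw⟩ := (hex (y - l (g y))).1 (by rw [map_sub, hgl, sub_self])
        exact ⟨(w, g y), by rw [LinearMap.coprod_apply, hw, sub_add_cancel]⟩
    have hrk := (LinearEquiv.ofBijective _ he).symm.finrank_eq
    rw [Module.finrank_prod] at hrk
    have hF : Module.rankAtStalk (R := R) (Fin k → R) q = k := by
      rw [congrFun Module.rankAtStalk_eq_finrank_of_free q]
      exact Module.finrank_fin_fun R
    have hrq := hr q hq
    unfold Module.rankAtStalk at hF hrq ⊢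
    change Module.finrank (Localization.AtPrime q.asIdeal) (LocalizedModule q.asIdeal.primeCompl (Fin k → R)) =
      Module.finrank (Localization.AtPrime q.asIdeal) (LocalizedModule q.asIdeal.primeCompl (LinearMap.ker f)) +
        Module.finrank (Localization.AtPrime q.asIdeal) (LocalizedModule q.asIdeal.primeCompl M) at hrk
    rw [hF] at hrk
    omega

/-- A nonzero ideal of finite projective dimension contains a regular element. -/
theorem notLe_associated {I : Ideal R} (hI : I ≠ ⊥) {n : ℕ} (h : PDLT R (R ⧸ I) (n + 1))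
    (P : Ideal R) (hP : P ∈ associatedPrimes R R) : ¬ I ≤ P := by
  intro hle
  obtain ⟨r, hr⟩ := exists_rank n (R ⧸ I) h
  -- ranks are at most one and detect the vanishing of `I`
  have key : ∀ q : PrimeSpectrum R, q.asIdeal ∈ associatedPrimes R R →
      (I ≤ q.asIdeal → ∀ x ∈ I, ∃ s ∉ q.asIdeal, s * x = 0) ∧
      (¬ I ≤ q.asIdeal → Module.rankAtStalk (R := R) (R ⧸ I) q = 0) ∧
      (I ≤ q.asIdeal → Module.rankAtStalk (R := R) (R ⧸ I) q ≠ 0) := by
    intro q hq
    let S := q.asIdeal.primeCompl
    let Rq := Localization.AtPrime q.asIdeal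
    let π := LocalizedModule.mkLinearMap S (R ⧸ I)
    haveI := free_at_associated h q hq
    haveI : Module.Finite Rq (LocalizedModule S (R ⧸ I)) := Module.Finite.of_isLocalizedModule S π
    have hnt : I ≤ q.asIdeal → Nontrivial (LocalizedModule S (R ⧸ I)) := fun hle => by
      refine ⟨π (Ideal.Quotient.mk I 1), 0, fun h0 => ?_⟩
      obtain ⟨⟨s, hs⟩, hs0⟩ := (IsLocalizedModule.eq_zero_iff S π).1 h0
      refine hs (hle (Ideal.Quotient.eq_zero_iff_mem.1 ?_))
      simpa [Submonoid.smul_def, Algebra.smul_def] using hs0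
    refine ⟨fun hle x hx => ?_, fun hnle => ?_, fun hle => ?_⟩
    · haveI := hnt hle
      obtain ⟨b⟩ := (Module.Free.chooseBasis Rq (LocalizedModule S (R ⧸ I))).index_nonempty
      let B := Module.Free.chooseBasis Rq (LocalizedModule S (R ⧸ I))
      have hann : ∀ y : LocalizedModule S (R ⧸ I), algebraMap R Rq x • y = 0 := fun y => by
        obtain ⟨⟨m, s⟩, hms⟩ := IsLocalizedModule.surj S π y
        apply IsLocalizedModule.smul_injective π s
        change s • algebraMap R Rq x • y = s • (0 : LocalizedModule S (R ⧸ I))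
        rw [smul_zero, algebraMap_smul, smul_comm, hms, ← map_smul]
        obtain ⟨m, rfl⟩ := Ideal.Quotient.mk_surjective m
        rw [Algebra.smul_def, Ideal.Quotient.algebraMap_eq, ← map_mul,
          Ideal.Quotient.eq_zero_iff_mem.2 (Ideal.mul_mem_right _ _ hx), map_zero]
      have h0 : algebraMap R Rq x = 0 := by
        have h' := congrArg (fun w => B.repr w b) (hann (B b))
        simp only [map_smul, Finsupp.smul_apply, Module.Basis.repr_self, Finsupp.single_eq_same, smul_eq_mul, mul_one,
          map_zero, Finsupp.zero_apply] at h'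
        exact h'
      obtain ⟨⟨s, hs⟩, hsx⟩ := (IsLocalization.map_eq_zero_iff S _ x).1 h0
      exact ⟨s, hs, hsx⟩
    · obtain ⟨x, hx, hxq⟩ := SetLike.not_le_iff_exists.1 hnle
      haveI : Subsingleton (LocalizedModule S (R ⧸ I)) := by
        refine subsingleton_of_forall_eq 0 fun y => ?_
        obtain ⟨⟨m, s⟩, hms⟩ := IsLocalizedModule.surj S π y
        apply IsLocalizedModule.smul_injective π (⟨x, hxq⟩ * s)
        change (⟨x, hxq⟩ * s : S) • y = (⟨x, hxq⟩ * s : S) • (0 : LocalizedModule S (R ⧸ I))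
        rw [smul_zero, mul_smul, hms, Submonoid.smul_def, ← map_smul]
        obtain ⟨m, rfl⟩ := Ideal.Quotient.mk_surjective m
        rw [Algebra.smul_def, Ideal.Quotient.algebraMap_eq, ← map_mul,
          Ideal.Quotient.eq_zero_iff_mem.2 (Ideal.mul_mem_right _ _ hx), map_zero]
      exact Module.finrank_zero_of_subsingleton
    · haveI := hnt hle
      show Module.finrank Rq (LocalizedModule S (R ⧸ I)) ≠ 0
      rw [Module.finrank_eq_card_chooseBasisIndex]
      exact (Fintype.card_pos_iff.2 (Module.Free.chooseBasis Rq (LocalizedModule S (R ⧸ I))).index_nonempty).ne'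
  refine hI (eq_bot_iff.2 fun x hx => ?_)
  by_contra hx0
  obtain ⟨Q, hQ, hann⟩ := exists_le_isAssociatedPrime_of_isNoetherianRing R x hx0
  have hP0 := key ⟨P, hP.1⟩ hP
  have hQ0 := key ⟨Q, hQ.1⟩ hQ
  by_cases hIQ : I ≤ Q
  · obtain ⟨s, hs, hsx⟩ := hQ0.1 hIQ x hx
    exact hs (hann (Submodule.mem_colon_singleton.2 (by simpa using hsx)))
  · have h1 := hQ0.2.1 hIQ
    have h2 := hP0.2.2 hle
    have h3 := hr ⟨P, hP.1⟩ hP
    have h4 := hr ⟨Q, hQ.1⟩ hQ
    omega

/-- Projective dimension of the quotient by an ideal. -/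
theorem pdlt_quotient {I : Ideal R} {n : ℕ} (h : PDLT R I (n + 1)) : PDLT R (R ⧸ I) (n + 1 + 1) :=
  (pdlt_ker_iff (Submodule.mkQ I) (Submodule.mkQ_surjective _) n).2
    (h.of_equiv (LinearEquiv.ofEq _ _ (Submodule.ker_mkQ _).symm))

/-- Regular sequences lifting a basis of a free conormal summand. -/
theorem exists_regular_lift : ∀ (r : ℕ) (R : Type u) [CommRing R] [IsNoetherianRing R] [IsLocalRing R]
    (I : Ideal R), I ≠ ⊤ → ∀ (n : ℕ), PDLT R I (n + 1) → ∀ (φ : I →ₗ[R] (Fin r → R ⧸ I)) (a : Fin r → I),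
    (∀ i, φ (a i) = Pi.single i 1) →
    ∃ x : Fin r → I, (∀ i, ((x i : R) - a i) ∈ I ^ 2) ∧ IsRegular R (List.ofFn fun i => (x i : R))
  | 0, R, _, _, _, I, hI, n, h, φ, a, ha =>
    ⟨a, fun i => i.elim0, by rw [List.ofFn_zero]; exact IsRegular.nil R R⟩
  | r + 1, R, _, _, _, I, hI, n, h, φ, a, ha => by
    classical
    haveI := CommAlgDim.nontrivial_quotient hI
    have hIm := le_maximalIdeal hI
    have hI0 : I ≠ ⊥ := fun h0 => by
      have hz : a 0 = 0 := Subtype.ext (by
        have := (a 0).2
        exact (Submodule.mem_bot R).1 (h0 ▸ this))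
      have h1 := congrFun (ha 0) 0
      rw [hz, map_zero, Pi.zero_apply, Pi.single_eq_same] at h1
      exact zero_ne_one h1
    have hass := notLe_associated hI0 (pdlt_quotient h)
    obtain ⟨z, hz, hzS⟩ := TCLib.exists_add_notMem (a 0 : R) (I ^ 2) (associatedPrimes.finite R R).toFinset
      (fun P hP => ((associatedPrimes.finite R R).mem_toFinset.1 hP).1) (fun P hP _ hle => by
        have hP' := (associatedPrimes.finite R R).mem_toFinset.1 hP
        exact hass P hP' ((hP'.1.pow_le_iff two_ne_zero).1 hle))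
    let x₀ : I := ⟨a 0 + z, add_mem (a 0).2 (Ideal.pow_le_self two_ne_zero hz)⟩
    have hφsq : ∀ y : I, (y : R) ∈ I ^ 2 → φ y = 0 := fun y hy => by
      have hy' : y ∈ (I • ⊤ : Submodule R I) := by
        rw [Submodule.mem_smul_top_iff]; rwa [smul_eq_mul, ← sq]
      refine Submodule.smul_induction_on hy' (fun c hc m _ => ?_) (fun u v hu hv => by rw [map_add, hu, hv, add_zero])
      rw [map_smul]
      funext l
      show c • φ m l = 0
      rw [Algebra.smul_def, Ideal.Quotient.algebraMap_eq, Ideal.Quotient.eq_zero_iff_mem.2 hc, zero_mul]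
    have hφx : φ x₀ = Pi.single 0 1 := by
      rw [← ha 0, ← sub_eq_zero, ← map_sub]
      exact hφsq _ (by simpa [x₀] using hz)
    have hxm : (x₀ : R) ∈ maximalIdeal R := hIm x₀.2
    have hxR : IsSMulRegular R (x₀ : R) := by
      refine Module.Flat.isSMulRegular_of_nonZeroDivisors ?_
      by_contra hzd
      have hmem : (x₀ : R) ∈ ⋃ P ∈ associatedPrimes R R, (P : Set R) := by
        rw [biUnion_associatedPrimes_eq_compl_nonZeroDivisors]; exact hzd
      obtain ⟨P, hP, hxP⟩ := Set.mem_iUnion₂.1 hmem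
      exact hzS P ((associatedPrimes.finite R R).mem_toFinset.2 hP) hxP
    have hxI : IsSMulRegular I (x₀ : R) := fun u v huv => Subtype.ext (hxR (congrArg Subtype.val huv))
    let J : Ideal R := Ideal.span {(x₀ : R)}
    let π := Ideal.Quotient.mk J
    haveI := nontrivial_quotient (singleton_ne_top hxm)
    have hJI : J ≤ I := (Ideal.span_singleton_le_iff_mem _).2 x₀.2
    let I' : Ideal (R ⧸ J) := I.map π
    have hI' : I' ≠ ⊤ := fun h0 => hI (by
      have := congrArg (Ideal.comap π) h0
      rwa [Ideal.comap_map_of_surjective _ Ideal.Quotient.mk_surjective, ← RingHom.ker_eq_comap_bot,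
        Ideal.mk_ker, sup_eq_left.2 hJI, Ideal.comap_top] at this)
    -- `I / x I` retracts onto `I / x R`
    let θ : I →ₗ[R] I' :=
      { toFun := fun u => ⟨π u, Ideal.mem_map_of_mem π u.2⟩
        map_add' := fun u v => Subtype.ext (map_add π _ _)
        map_smul' := fun c u => Subtype.ext (map_mul π c u) }
    have hθs : Function.Surjective θ := fun u => by
      obtain ⟨v, hv, hvu⟩ := (Ideal.mem_map_iff_of_surjective π Ideal.Quotient.mk_surjective).1 u.2
      exact ⟨⟨v, hv⟩, Subtype.ext hvu⟩
    have hkθ : ∀ u : I, θ u = 0 → ∃ t : R, u = t • x₀ := fun u hu => by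
      obtain ⟨t, ht⟩ := Ideal.mem_span_singleton'.1 (Ideal.Quotient.eq_zero_iff_mem.1 (congrArg Subtype.val hu))
      exact ⟨t, Subtype.ext ht.symm⟩
    let ρ : QuotSMulTop (x₀ : R) I →ₗ[R] I' := Submodule.liftQ _ θ (by
      intro u hu
      obtain ⟨b, -, rfl⟩ := (Submodule.mem_smul_pointwise_iff_exists _ _ _).1 hu
      exact Subtype.ext (Ideal.Quotient.eq_zero_iff_mem.2 (Ideal.mul_mem_right _ _ (Ideal.mem_span_singleton_self _))))
    let Q := QuotSMulTop (x₀ : R) I
    let χ : (R ⧸ I) →ₗ[R] Q :=
      Submodule.liftQ I (LinearMap.toSpanSingleton R Q (Submodule.Quotient.mk x₀)) (fun c hc => by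
        rw [LinearMap.mem_ker, LinearMap.toSpanSingleton_apply, ← Submodule.Quotient.mk_smul,
          Submodule.Quotient.mk_eq_zero, Submodule.mem_smul_pointwise_iff_exists]
        exact ⟨⟨c, hc⟩, trivial, Subtype.ext (mul_comm _ _)⟩)
    let σ : I →ₗ[R] Q := Submodule.mkQ _ - χ ∘ₗ LinearMap.proj 0 ∘ₗ φ
    have hσx : σ x₀ = 0 := by
      show (Submodule.Quotient.mk x₀ : Q) - χ (φ x₀ 0) = 0
      rw [hφx, Pi.single_eq_same]
      show (Submodule.Quotient.mk x₀ : Q) - (1 : R) • (Submodule.Quotient.mk x₀ : Q) = 0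
      rw [one_smul, sub_self]
    have hker : LinearMap.ker θ ≤ LinearMap.ker σ := fun u hu => by
      obtain ⟨t, rfl⟩ := hkθ u hu
      rw [LinearMap.mem_ker, map_smul, hσx, smul_zero]
    let s : I' →ₗ[R] Q := (LinearMap.ker θ).liftQ σ hker ∘ₗ (θ.quotKerEquivOfSurjective hθs).symm.toLinearMap
    have hρs : ∀ y, ρ (s y) = y := fun y => by
      obtain ⟨u, rfl⟩ := hθs y
      have he : (θ.quotKerEquivOfSurjective hθs).symm (θ u) = Submodule.Quotient.mk u := by
        rw [LinearEquiv.symm_apply_eq]; rfl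
      show ρ ((LinearMap.ker θ).liftQ σ hker ((θ.quotKerEquivOfSurjective hθs).symm (θ u))) = θ u
      rw [he, Submodule.liftQ_apply]
      show ρ (Submodule.Quotient.mk u - χ (φ u 0)) = θ u
      obtain ⟨c, hc⟩ := Ideal.Quotient.mk_surjective (φ u 0)
      rw [map_sub, ← hc]
      show θ u - ρ (c • Submodule.Quotient.mk x₀) = θ u
      rw [map_smul, show ρ (Submodule.Quotient.mk x₀) = 0 from
        Subtype.ext (Ideal.Quotient.eq_zero_iff_mem.2 (Ideal.mem_span_singleton_self _)), smul_zero, sub_zero]
    haveI : Module.Finite R I := Module.Finite.of_fg (IsNoetherian.noetherian I)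
    have hI'pd : PDLT (R ⧸ J) I' (n + 1) := PDLT.of_retract (R := R ⧸ J) (M := I') (N := Q)
      (s.extendScalarsOfSurjective (R := R) (S := R ⧸ J) Ideal.Quotient.mk_surjective)
      (ρ.extendScalarsOfSurjective (R := R) (S := R ⧸ J) Ideal.Quotient.mk_surjective) (LinearMap.ext hρs)
      ((pdlt_quotSMulTop_iff hxm hxR n I hxI).2 h)
    -- the remaining coordinates
    let w : R ⧸ I →ₗ[R] (R ⧸ J) ⧸ I' := Submodule.liftQ I
      ((Algebra.linearMap R ((R ⧸ J) ⧸ I'))) (fun c hc => by
        rw [LinearMap.mem_ker, Algebra.linearMap_apply, IsScalarTower.algebraMap_apply R (R ⧸ J),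
          Ideal.Quotient.algebraMap_eq, Ideal.Quotient.algebraMap_eq, Ideal.Quotient.eq_zero_iff_mem]
        exact Ideal.mem_map_of_mem π hc)
    let τ : I →ₗ[R] (Fin r → (R ⧸ J) ⧸ I') := LinearMap.pi fun l => w ∘ₗ LinearMap.proj l.succ ∘ₗ φ
    have hτx : τ x₀ = 0 := by
      funext l
      show w (φ x₀ l.succ) = 0
      rw [hφx, Pi.single_eq_of_ne (Fin.succ_ne_zero l), map_zero]
    have hτk : LinearMap.ker θ ≤ LinearMap.ker τ := fun u hu => by
      obtain ⟨t, rfl⟩ := hkθ u hu
      rw [LinearMap.mem_ker, map_smul, hτx, smul_zero]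
    let φ₀ : I' →ₗ[R] (Fin r → (R ⧸ J) ⧸ I') :=
      (LinearMap.ker θ).liftQ τ hτk ∘ₗ (θ.quotKerEquivOfSurjective hθs).symm.toLinearMap
    have hφ₀ : ∀ u, φ₀ (θ u) = τ u := fun u => by
      have he : (θ.quotKerEquivOfSurjective hθs).symm (θ u) = Submodule.Quotient.mk u := by
        rw [LinearEquiv.symm_apply_eq]; rfl
      show (LinearMap.ker θ).liftQ τ hτk ((θ.quotKerEquivOfSurjective hθs).symm (θ u)) = τ u
      rw [he, Submodule.liftQ_apply]
    have ha' : ∀ i : Fin r, φ₀.extendScalarsOfSurjective (R := R) (S := R ⧸ J) Ideal.Quotient.mk_surjective (θ (a i.succ)) =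
        Pi.single i (1 : (R ⧸ J) ⧸ I') := fun i => by
      show φ₀ (θ (a i.succ)) = _
      rw [hφ₀]
      funext l
      show w (φ (a i.succ) l.succ) = _
      rw [ha]
      rcases eq_or_ne l i with rfl | hl
      · rw [Pi.single_eq_same, Pi.single_eq_same, show (1 : R ⧸ I) = Submodule.Quotient.mk 1 from rfl]
        show algebraMap R ((R ⧸ J) ⧸ I') 1 = 1
        exact map_one _
      · rw [Pi.single_eq_of_ne hl, Pi.single_eq_of_ne (Fin.succ_injective _ |>.ne hl), map_zero]
    obtain ⟨y, hy, hyreg⟩ := exists_regular_lift r (R ⧸ J) I' hI' n hI'pd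
      (φ₀.extendScalarsOfSurjective (R := R) (S := R ⧸ J) Ideal.Quotient.mk_surjective) (fun i => θ (a i.succ)) ha'
    have hlift : ∀ i, ∃ u : I, θ u = y i ∧ (u : R) - a i.succ ∈ I ^ 2 := fun i => by
      obtain ⟨v, hv⟩ := hθs (y i)
      have h1 := hy i
      rw [← hv] at h1
      change π v - π (a i.succ) ∈ I' ^ 2 at h1
      rw [← map_sub, ← Ideal.map_pow, Ideal.mem_map_iff_of_surjective π Ideal.Quotient.mk_surjective] at h1
      obtain ⟨q, hq, hqe⟩ := h1
      refine ⟨⟨a i.succ + q, add_mem (a i.succ).2 (Ideal.pow_le_self two_ne_zero hq)⟩, ?_, by simpa using hq⟩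
      rw [← hv]
      exact Subtype.ext (by show π (a i.succ + q) = π v; rw [map_add, hqe, map_sub, add_sub_cancel])
    choose u hu1 hu2 using hlift
    refine ⟨Fin.cons x₀ u, fun i => ?_, ?_⟩
    · refine Fin.cases ?_ (fun i => ?_) i
      · simpa [x₀] using hz
      · simpa using hu2 i
    · rw [List.ofFn_succ]
      simp only [Fin.cons_zero, Fin.cons_succ]
      refine isRegular_cons_ring.2 ⟨hxR, ?_⟩
      rw [List.map_ofFn, show (Ideal.Quotient.mk (Ideal.span {(x₀ : R)})) ∘ (fun i => (u i : R)) = fun i => (y i : R ⧸ J) from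
        funext fun i => congrArg Subtype.val (hu1 i)]
      exact hyreg

end FVLib
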