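import Groth.Agent.FVLib.Basic
import Mathlib.RingTheory.Localization.Algebra

/-! Ideals of finite projective dimension with projective conormal module are regular. -/

set_option autoImplicit false
set_option linter.style.haveILetI false
universe u

open IsLocalRing CategoryTheory RingTheory.Sequence CommAlgDim

namespace FVLib

variable {R : Type u} [CommRing R]

/-- Weak regularity of a finite family, by membership. -/
def NR {r : ℕ} (x : Fin r → R) : Prop :=
  ∀ i, ∀ a : R, x i * a ∈ Ideal.span (x '' {j | j < i}) → a ∈ Ideal.span (x '' {j | j < i})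

theorem nr_iff {r : ℕ} (x : Fin r → R) : NR x ↔ IsWeaklyRegular R (List.ofFn x) := by
  have hset : ∀ i : Fin r, Ideal.ofList ((List.ofFn x).take i) = Ideal.span (x '' {j | j < i}) := fun i => by
    refine congrArg Ideal.span ?_
    ext z
    simp only [Set.mem_setOf_eq, List.mem_take_iff_getElem, List.getElem_ofFn, List.length_ofFn, Set.mem_image]
    constructor
    · rintro ⟨j, hj, rfl⟩
      exact ⟨⟨j, by omega⟩, Fin.lt_def.2 (by simp only; omega), rfl⟩
    · rintro ⟨j, hj, rfl⟩
      exact ⟨j, by have := Fin.lt_def.1 hj; omega, rfl⟩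
  have hpt : ∀ i : Fin r, (∀ a : R, x i * a ∈ Ideal.span (x '' {j | j < i}) → a ∈ Ideal.span (x '' {j | j < i})) ↔
      IsSMulRegular (R ⧸ (Ideal.ofList ((List.ofFn x).take i) • ⊤ : Submodule R R)) (x i) := fun i => by
    rw [smul_eq_mul, Ideal.mul_top, hset]
    constructor
    · intro h u v huv
      obtain ⟨a, rfl⟩ := Submodule.Quotient.mk_surjective _ u
      obtain ⟨b, rfl⟩ := Submodule.Quotient.mk_surjective _ v
      refine (Submodule.Quotient.eq _).2 (h _ ?_)
      have h' : (Submodule.Quotient.mk (x i • a) : R ⧸ Ideal.span (x '' {j | j < i})) = Submodule.Quotient.mk (x i • b) := huv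
      rw [Submodule.Quotient.eq, smul_eq_mul, smul_eq_mul, ← mul_sub] at h'
      exact h'
    · intro h a ha
      refine (Submodule.Quotient.mk_eq_zero _).1 (h ?_)
      show x i • (Submodule.Quotient.mk a : R ⧸ Ideal.span (x '' {j | j < i})) = x i • 0
      rw [smul_zero, ← Submodule.Quotient.mk_smul, Submodule.Quotient.mk_eq_zero]
      exact ha
  rw [isWeaklyRegular_iff_Fin]
  constructor
  · intro h i
    have := (hpt ⟨i.1, by simpa using i.2⟩).1 (h _)
    simpa [List.getElem_ofFn] using this
  · intro h i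
    have := h ⟨i.1, by simp⟩
    exact (hpt i).2 (by simpa [List.getElem_ofFn] using this)

theorem span_image_mul_units {r : ℕ} (x : Fin r → R) (c : Fin r → Rˣ) (s : Set (Fin r)) :
    Ideal.span ((fun i => (c i : R) * x i) '' s) = Ideal.span (x '' s) := by
  refine le_antisymm (Ideal.span_le.2 ?_) (Ideal.span_le.2 ?_)
  · rintro _ ⟨i, hi, rfl⟩
    exact Ideal.mul_mem_left _ _ (Ideal.subset_span ⟨i, hi, rfl⟩)
  · rintro _ ⟨i, hi, rfl⟩
    have h : (c i : R) * x i ∈ Ideal.span ((fun i => (c i : R) * x i) '' s) := Ideal.subset_span ⟨i, hi, rfl⟩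
    have := Ideal.mul_mem_left _ ((c i)⁻¹ : Rˣ).1 h
    rwa [← mul_assoc, Units.inv_mul, one_mul] at this

theorem NR.mul_units {r : ℕ} {x : Fin r → R} (h : NR x) (c : Fin r → Rˣ) : NR fun i => (c i : R) * x i := by
  intro i a ha
  rw [span_image_mul_units] at ha ⊢
  exact (Ideal.unit_mul_mem_iff_mem _ (c i).isUnit).1 (h i _ (by rwa [← mul_assoc, mul_comm (x i)]))

/-- A finitely generated ideal inside the localisation of another is so after inverting one element. -/
theorem exists_mul_mem [IsNoetherianRing R] (p : Ideal R) [p.IsPrime] (I P : Ideal R)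
    (h : I.map (algebraMap R (Localization.AtPrime p)) ≤ P.map (algebraMap R (Localization.AtPrime p))) :
    ∃ s ∉ p, ∀ a ∈ I, s * a ∈ P := by
  classical
  obtain ⟨t, ht⟩ := IsNoetherian.noetherian I
  have hex : ∀ a ∈ t, ∃ s : R, s ∉ p ∧ s * a ∈ P := fun a ha => by
    obtain ⟨s, hs, hsa⟩ := (IsLocalization.algebraMap_mem_map_algebraMap_iff p.primeCompl _ P a).1
      (h (Ideal.mem_map_of_mem _ (ht ▸ Submodule.subset_span ha)))
    exact ⟨s, hs, hsa⟩
  choose! s hs hsa using hex
  refine ⟨∏ a ∈ t, s a, fun hmem => ?_, fun a ha => ?_⟩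
  · obtain ⟨a, ha, hap⟩ := (Ideal.IsPrime.prod_mem_iff.1 hmem)
    exact hs a ha hap
  · rw [← ht] at ha
    induction ha using Submodule.span_induction with
    | mem b hb =>
      rw [← Finset.mul_prod_erase t s hb, mul_comm (s b), mul_assoc]
      exact Ideal.mul_mem_left _ _ (hsa b hb)
    | zero => rw [mul_zero]; exact zero_mem _
    | add b c _ _ hb hc => rw [mul_add]; exact add_mem hb hc
    | smul c b _ hb => rw [smul_eq_mul, mul_left_comm]; exact Ideal.mul_mem_left _ _ hb

/-- A regular sequence at a prime is one on a neighbourhood. -/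
theorem exists_away [IsNoetherianRing R] (p : Ideal R) [p.IsPrime] {I : Ideal R} (hIp : I ≤ p) {r : ℕ}
    (y : Fin r → R) (hyI : ∀ i, y i ∈ I) (hy : NR fun i => algebraMap R (Localization.AtPrime p) (y i))
    (hgen : I.map (algebraMap R (Localization.AtPrime p)) ≤
      Ideal.span (Set.range fun i => algebraMap R (Localization.AtPrime p) (y i))) :
    ∃ g : R, g ∉ p ∧ ∃ rs : List (Localization.Away g), IsRegular (Localization.Away g) rs ∧
      Ideal.ofList rs = I.map (algebraMap R (Localization.Away g)) := by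
  classical
  let P : Fin r → Ideal R := fun i => Ideal.span (y '' {j | j < i})
  let K : Fin r → Ideal R := fun i => Submodule.comap (LinearMap.mulLeft R (y i)) (P i)
  have hPmap : ∀ (S : Type u) [CommRing S] [Algebra R S] (i : Fin r),
      (P i).map (algebraMap R S) = Ideal.span ((fun j => algebraMap R S (y j)) '' {j | j < i}) := fun S _ _ i => by
    rw [Ideal.map_span, Set.image_image]
  have hK : ∀ i, ∃ s ∉ p, ∀ a ∈ K i, s * a ∈ P i := fun i => exists_mul_mem p _ _ (Ideal.map_le_iff_le_comap.2
    fun a ha => by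
      rw [Ideal.mem_comap, hPmap]
      refine hy i _ ?_
      rw [← map_mul, ← hPmap]
      exact Ideal.mem_map_of_mem _ ha)
  choose s hs hsK using hK
  obtain ⟨s₀, hs₀, hsI⟩ := exists_mul_mem p I (Ideal.span (Set.range y)) (by
    rw [Ideal.map_span, ← Set.range_comp]; exact hgen)
  let g := s₀ * ∏ i, s i
  have hg : g ∉ p := fun h => ((Ideal.IsPrime.mem_or_mem ‹_› h).elim hs₀ fun h' => by
    obtain ⟨i, -, hi⟩ := Ideal.IsPrime.prod_mem_iff.1 h'
    exact hs i hi)
  let L := Localization.Away g
  have hgu : ∀ t : R, t ∣ g → IsUnit (algebraMap R L t) := fun t ht =>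
    isUnit_of_dvd_unit (map_dvd _ ht) (IsLocalization.Away.algebraMap_isUnit g)
  refine ⟨g, hg, List.ofFn fun i => algebraMap R L (y i), ?_, ?_⟩
  · refine ⟨(nr_iff _).1 fun i a ha => ?_, ?_⟩
    · rw [← hPmap] at ha ⊢
      obtain ⟨⟨a₀, t⟩, hat⟩ := IsLocalization.surj (Submonoid.powers g) a
      have h1 : algebraMap R L (y i * a₀) ∈ (P i).map (algebraMap R L) := by
        rw [map_mul, ← hat, ← mul_assoc]
        exact Ideal.mul_mem_right _ _ ha
      obtain ⟨w, hwg, hwa⟩ := (IsLocalization.algebraMap_mem_map_algebraMap_iff (Submonoid.powers g) L (P i) _).1 h1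
      have h2 : s i * (w * a₀) ∈ P i := hsK i _ (by
        show y i * (w * a₀) ∈ P i
        rwa [mul_left_comm])
      have h3 : algebraMap R L a₀ ∈ (P i).map (algebraMap R L) := by
        have := Ideal.mem_map_of_mem (algebraMap R L) h2
        rw [map_mul, map_mul] at this
        rw [← Ideal.unit_mul_mem_iff_mem _ (hgu _ (Dvd.dvd.mul_left (Finset.dvd_prod_of_mem s (Finset.mem_univ i)) s₀))] 
        rw [← Ideal.unit_mul_mem_iff_mem _ (show IsUnit (algebraMap R L w) by
          obtain ⟨k, rfl⟩ := hwg
          rw [map_pow]; exact (IsLocalization.Away.algebraMap_isUnit g).pow k)]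
        rwa [mul_left_comm]
      have h4 := hat ▸ h3
      exact (Ideal.mul_unit_mem_iff_mem _ (IsLocalization.map_units L t)).1 h4
    · rw [smul_eq_mul, Ideal.mul_top]
      refine fun htop => ?_
      have hle : Ideal.ofList (List.ofFn fun i => algebraMap R L (y i)) ≤ p.map (algebraMap R L) :=
        Ideal.span_le.2 fun z hz => by
          obtain ⟨i, rfl⟩ := List.mem_ofFn.1 hz
          exact Ideal.mem_map_of_mem _ (hIp (hyI i))
      have hprime := IsLocalization.isPrime_of_isPrime_disjoint (Submonoid.powers g) L p ‹_›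
        (Ideal.disjoint_powers_iff_notMem g (Ideal.IsPrime.isRadical ‹_›) |>.2 hg)
      exact hprime.ne_top (top_le_iff.1 (htop.le.trans hle))
  · refine le_antisymm (Ideal.span_le.2 fun z hz => ?_) (Ideal.map_le_iff_le_comap.2 fun a ha => ?_)
    · obtain ⟨i, rfl⟩ := List.mem_ofFn.1 hz
      exact Ideal.mem_map_of_mem _ (hyI i)
    · rw [Ideal.mem_comap]
      have h1 := Ideal.mem_map_of_mem (algebraMap R L) (hsI a ha)
      rw [map_mul, Ideal.unit_mul_mem_iff_mem _ (hgu s₀ (Dvd.intro _ rfl)), Ideal.map_span, ← Set.range_comp] at h1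
      refine Ideal.span_mono ?_ h1
      rintro _ ⟨i, rfl⟩
      exact List.mem_ofFn.2 ⟨i, rfl⟩

/-- The conormal module of the localised ideal is projective. -/
theorem projective_cotangent_map [IsNoetherianRing R] (I : Ideal R) [Module.Projective (R ⧸ I) I.Cotangent]
    (S : Submonoid R) (L : Type u) [CommRing L] [Algebra R L] [IsLocalization S L] :
    Module.Projective (L ⧸ I.map (algebraMap R L)) (I.map (algebraMap R L)).Cotangent := by
  let J := I.map (algebraMap R L)
  haveI : Module.Finite R I := Module.Finite.of_fg (IsNoetherian.noetherian I)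
  haveI : Module.Finite (R ⧸ I) I.Cotangent := by
    haveI : Module.Finite R I.Cotangent := Module.Finite.of_surjective I.toCotangent I.toCotangent_surjective
    exact Module.Finite.of_restrictScalars_finite R _ _
  obtain ⟨m, q, hq⟩ := Module.Finite.exists_fin' (R ⧸ I) I.Cotangent
  obtain ⟨sec, hsec⟩ := Module.projective_lifting_property q LinearMap.id hq
  choose u hu using fun k : Fin m => I.toCotangent_surjective (q (Pi.single k 1))
  let f : I →ₗ[R] J := Algebra.idealMap I (S := L)
  let w : R ⧸ I →ₗ[R] L ⧸ J := Submodule.liftQ I (Algebra.linearMap R (L ⧸ J)) (fun c hc => by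
    rw [LinearMap.mem_ker, Algebra.linearMap_apply, IsScalarTower.algebraMap_apply R L,
      Ideal.Quotient.algebraMap_eq, Ideal.Quotient.eq_zero_iff_mem]
    exact Ideal.mem_map_of_mem _ hc)
  let ξ : I →ₗ[R] (Fin m → L ⧸ J) := LinearMap.pi fun k => w ∘ₗ LinearMap.proj k ∘ₗ (sec.restrictScalars R) ∘ₗ I.toCotangent
  have hunits : ∀ t : S, IsUnit ((algebraMap R (Module.End R (Fin m → L ⧸ J))) t) := fun t => by
    rw [Module.End.isUnit_iff]
    obtain ⟨c, hc⟩ := (IsLocalization.map_units L t).exists_left_inv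
    refine ⟨fun a b h => ?_, fun a => ⟨c • a, ?_⟩⟩
    · have h' : algebraMap R L t • a = algebraMap R L t • b := by
        rw [algebraMap_smul, algebraMap_smul]; exact h
      rw [← one_smul L a, ← one_smul L b, ← hc, mul_smul, mul_smul, h']
    · show (t : R) • c • a = a
      rw [← algebraMap_smul L, smul_smul, mul_comm, hc, one_smul]
  let ξ' : J →ₗ[L] (Fin m → L ⧸ J) := (IsLocalizedModule.lift S f ξ hunits).extendScalarsOfIsLocalization S L
  have hξ : ∀ y : I, ξ' (f y) = ξ y := fun y => IsLocalizedModule.lift_apply S f ξ hunits y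
  have hkill : (J • ⊤ : Submodule L J) ≤ LinearMap.ker ξ' := Submodule.smul_le.2 fun c hc z _ => by
    rw [LinearMap.mem_ker, map_smul]
    funext k
    show c • ξ' z k = 0
    rw [Algebra.smul_def, Ideal.Quotient.algebraMap_eq, Ideal.Quotient.eq_zero_iff_mem.2 hc, zero_mul]
  let θ₀ : J.Cotangent →ₗ[L] (Fin m → L ⧸ J) := Submodule.liftQ _ ξ' hkill
  let θ := θ₀.extendScalarsOfSurjective (R := L) (S := L ⧸ J) Ideal.Quotient.mk_surjective
  let π : (Fin m → L ⧸ J) →ₗ[L ⧸ J] J.Cotangent := Fintype.linearCombination (L ⧸ J) fun k => J.toCotangent (f (u k))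
  refine Module.Projective.of_split θ π (LinearMap.ext fun z => ?_)
  obtain ⟨z, rfl⟩ := J.toCotangent_surjective z
  suffices h : ((π.restrictScalars L) ∘ₗ ξ').restrictScalars R = J.toCotangent.restrictScalars R from
    LinearMap.congr_fun h z
  haveI : IsLocalizedModule S f := Algebra.idealMap_isLocalizedModule L S I
  apply IsLocalizedModule.ext S f (fun t => by
    rw [Module.End.isUnit_iff]
    obtain ⟨c, hc⟩ := (IsLocalization.map_units L t).exists_left_inv
    refine ⟨fun a b h => ?_, fun a => ⟨c • a, ?_⟩⟩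
    · have h' : algebraMap R L t • a = algebraMap R L t • b := by
        rw [algebraMap_smul, algebraMap_smul]; exact h
      rw [← one_smul L a, ← one_smul L b, ← hc, mul_smul, mul_smul, h']
    · show (t : R) • c • a = a
      rw [← algebraMap_smul L, smul_smul, mul_comm, hc, one_smul])
  ext y
  show π (ξ' (f y)) = J.toCotangent (f y)
  rw [hξ, Fintype.linearCombination_apply]
  let ι : I.Cotangent →ₗ[R] J.Cotangent := Ideal.mapCotangent I J (Algebra.ofId R L) Ideal.le_comap_map
  have hι : ∀ v : I, ι (I.toCotangent v) = J.toCotangent (f v) := fun v => rfl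
  have h1 : q (sec (I.toCotangent y)) = I.toCotangent y := LinearMap.congr_fun hsec _
  conv_rhs => rw [← hι, ← h1, pi_eq_sum_univ' (sec (I.toCotangent y)), map_sum, map_sum]
  refine Finset.sum_congr rfl fun k _ => ?_
  obtain ⟨c, hc⟩ := Ideal.Quotient.mk_surjective (sec (I.toCotangent y) k)
  show w (sec (I.toCotangent y) k) • J.toCotangent (f (u k)) = _
  rw [← hc, map_smul, ← hu, ← hι]
  show algebraMap R (L ⧸ J) c • ι (I.toCotangent (u k)) = ι (algebraMap R (R ⧸ I) c • I.toCotangent (u k))
  rw [IsScalarTower.algebraMap_apply R L (L ⧸ J), algebraMap_smul, algebraMap_smul, algebraMap_smul, map_smul]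

/-- The theorem of Ferrand and Vasconcelos. -/
theorem exists_away_regular [IsNoetherianRing R] (I : Ideal R) {n : ℕ} (hpd : PDLT R I (n + 1))
    [Module.Projective (R ⧸ I) I.Cotangent] (p : Ideal R) [p.IsPrime] (hIp : I ≤ p) :
    ∃ g : R, g ∉ p ∧ ∃ rs : List (Localization.Away g), IsRegular (Localization.Away g) rs ∧
      Ideal.ofList rs = I.map (algebraMap R (Localization.Away g)) := by
  classical
  let L := Localization.AtPrime p
  let J := I.map (algebraMap R L)
  have hJm : J ≤ maximalIdeal L := by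
    rw [← Localization.AtPrime.map_eq_maximalIdeal]; exact Ideal.map_mono hIp
  have hJ : J ≠ ⊤ := fun h => (maximalIdeal.isMaximal L).ne_top (top_le_iff.1 (h ▸ hJm))
  haveI := projective_cotangent_map I p.primeCompl L
  haveI : Module.Finite L J := Module.Finite.of_fg (IsNoetherian.noetherian J)
  haveI : Module.Finite (L ⧸ J) J.Cotangent := by
    haveI : Module.Finite L J.Cotangent := Module.Finite.of_surjective J.toCotangent J.toCotangent_surjective
    exact Module.Finite.of_restrictScalars_finite L _ _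
  haveI := CommAlgDim.nontrivial_quotient hJ
  haveI : Module.Free (L ⧸ J) J.Cotangent := Module.free_of_flat_of_isLocalRing
  let b := Module.finBasis (L ⧸ J) J.Cotangent
  choose a ha using fun i => J.toCotangent_surjective (b i)
  let φ : J →ₗ[L] _ := (b.equivFun.toLinearMap.restrictScalars L) ∘ₗ J.toCotangent
  have hφ : ∀ i, φ (a i) = Pi.single i 1 := fun i => by
    show b.equivFun (J.toCotangent (a i)) = _
    rw [ha]
    ext j
    rw [Module.Basis.equivFun_apply, Module.Basis.repr_self, Finsupp.single_apply, Pi.single_apply]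
    simp [eq_comm]
  haveI : IsLocalizedModule p.primeCompl (Algebra.idealMap I (S := L)) := Algebra.idealMap_isLocalizedModule L p.primeCompl I
  obtain ⟨x, hx, hxreg⟩ := exists_regular_lift _ L J hJ n
    (PDLT.localization p.primeCompl (Algebra.idealMap I (S := L)) hpd) φ a hφ
  have hJx : J ≤ Ideal.span (Set.range fun i => (x i : L)) := by
    have hgen : J ≤ Ideal.span (Set.range fun i => (x i : L)) ⊔ J • J := by
      intro z hz
      obtain ⟨c, hc⟩ : ∃ c : Fin _ → L, ∀ i, Ideal.Quotient.mk J (c i) = b.repr (J.toCotangent ⟨z, hz⟩) i :=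
        ⟨fun i => (Ideal.Quotient.mk_surjective _).choose, fun i => (Ideal.Quotient.mk_surjective _).choose_spec⟩
      have h1 : J.toCotangent ⟨z, hz⟩ = J.toCotangent (∑ i, c i • a i) := by
        conv_lhs => rw [← b.sum_repr (J.toCotangent ⟨z, hz⟩)]
        rw [map_sum]
        refine Finset.sum_congr rfl fun i _ => ?_
        rw [map_smul, ha, ← hc, ← Ideal.Quotient.algebraMap_eq, algebraMap_smul]
      rw [Ideal.toCotangent_eq] at h1
      have h2 : z - ∑ i, c i * (a i : L) ∈ J ^ 2 := by simpa using h1
      rw [Submodule.mem_sup]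
      refine ⟨∑ i, c i * (x i : L), sum_mem fun i _ => Ideal.mul_mem_left _ _ (Ideal.subset_span ⟨i, rfl⟩),
        z - ∑ i, c i * (x i : L), ?_, add_sub_cancel _ _⟩
      rw [smul_eq_mul, ← sq, show z - ∑ i, c i * (x i : L) = (z - ∑ i, c i * (a i : L)) - ∑ i, c i * ((x i : L) - a i) by
        simp only [mul_sub, Finset.sum_sub_distrib]; ring]
      exact sub_mem h2 (sum_mem fun i _ => Ideal.mul_mem_left _ _ (hx i))
    exact Submodule.le_of_le_smul_of_le_jacobson_bot (IsNoetherian.noetherian J)
      (hJm.trans (jacobson_eq_maximalIdeal ⊥ bot_ne_top).ge) hgen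
  choose yt hy using fun i => (IsLocalization.mem_map_algebraMap_iff p.primeCompl L).1 (x i).2
  let y := fun i => (yt i).1
  let t := fun i => (yt i).2
  have heq : (fun i => algebraMap R L (y i).1) = fun i => ((IsLocalization.map_units L (t i)).unit : L) * (x i : L) :=
    funext fun i => by rw [← hy i, IsUnit.unit_spec, mul_comm]
  refine exists_away p hIp (fun i => (y i).1) (fun i => (y i).2) ?_ (hJx.trans ?_)
  · rw [heq]
    exact NR.mul_units ((nr_iff _).2 hxreg.toIsWeaklyRegular) _
  · rw [heq, ← Set.image_univ, ← Set.image_univ, span_image_mul_units]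

end FVLib
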